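import Mathlib

/-!
# Alternating groups and perfect residuals for the alternating suborbit theorem

Owner: helper64.
-/

set_option autoImplicit false
set_option linter.style.haveILetI false

open Equiv
open scoped Nat commutatorElement

namespace Cfsg.Agent.Lib.SuborbitAlt

variable {n : ℕ}

theorem commutator_alt (h5 : 5 ≤ n) :
    ⁅alternatingGroup (Fin n), alternatingGroup (Fin n)⁆ = alternatingGroup (Fin n) :=
  commutator_alternatingGroup_eq_self (by simpa using h5)

theorem two_mul_card_alt (h5 : 5 ≤ n) : 2 * Nat.card (alternatingGroup (Fin n)) = n ! := by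
  haveI : Nontrivial (Fin n) := Fin.nontrivial_iff_two_le.2 (by omega)
  rw [two_mul_nat_card_alternatingGroup, Nat.card_perm, Nat.card_fin]

theorem alt_ne_bot (h5 : 5 ≤ n) : alternatingGroup (Fin n) ≠ ⊥ := by
  haveI := alternatingGroup.nontrivial_of_three_le_card (α := Fin n) (by simp; omega)
  exact (Subgroup.nontrivial_iff_ne_bot _).1 inferInstance

theorem centralizer_alt (h5 : 5 ≤ n) :
    Subgroup.centralizer (alternatingGroup (Fin n) : Set (Perm (Fin n))) = ⊥ := by
  haveI hN : (Subgroup.centralizer (alternatingGroup (Fin n) : Set (Perm (Fin n)))).Normal := inferInstance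
  by_contra h
  have hle := Equiv.Perm.alternatingGroup_le_of_normal (by simpa using h5) ((Subgroup.nontrivial_iff_ne_bot _).2 h)
  exact alt_ne_bot h5 ((commutator_alt h5).symm.trans (Subgroup.commutator_eq_bot_iff_le_centralizer.2 hle))

theorem eq_bot_or_alt_le (h5 : 5 ≤ n) {N : Subgroup (Perm (Fin n))}
    (h : alternatingGroup (Fin n) ≤ Subgroup.normalizer (N : Set (Perm (Fin n)))) :
    N = ⊥ ∨ alternatingGroup (Fin n) ≤ N := by
  haveI := alternatingGroup.isSimpleGroup (α := Fin n) (by simpa using h5)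
  haveI hn : (N.subgroupOf (alternatingGroup (Fin n))).Normal := Subgroup.normal_subgroupOf_of_le_normalizer h
  rcases hn.eq_bot_or_eq_top with h1 | h1
  · left
    rw [Subgroup.subgroupOf_eq_bot, disjoint_iff] at h1
    have h2 : ⁅N, alternatingGroup (Fin n)⁆ = ⊥ := le_bot_iff.1 (h1 ▸ le_inf
      (Subgroup.le_normalizer_iff_commutator_le_left.1 h) (Subgroup.commutator_le_right _ _))
    exact le_bot_iff.1 ((Subgroup.commutator_eq_bot_iff_le_centralizer.1 h2).trans (centralizer_alt h5).le)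
  · exact .inr (Subgroup.subgroupOf_eq_top.1 h1)

theorem perfect_le_alt (h5 : 5 ≤ n) {X : Subgroup (Perm (Fin n))} (h : ⁅X, X⁆ = X) :
    X ≤ alternatingGroup (Fin n) := by
  rw [← h, Subgroup.commutator_le]
  intro a _ b _
  simp [Equiv.Perm.mem_alternatingGroup, commutatorElement_def, map_mul, mul_comm, mul_left_comm]

theorem not_card_alt_dvd (h5 : 5 ≤ n) : ¬ Nat.card (alternatingGroup (Fin n)) ∣ (n - 1)! := by
  intro h
  have h1 : n ! ∣ 2 * (n - 1)! := two_mul_card_alt h5 ▸ Nat.mul_dvd_mul_left 2 h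
  rw [← Nat.mul_factorial_pred (by omega : n ≠ 0)] at h1
  have := Nat.le_of_dvd (by norm_num) (Nat.dvd_of_mul_dvd_mul_right (Nat.factorial_pos _) h1)
  omega

theorem exists_mem_alt_two (h5 : 5 ≤ n) {a b c e : Fin n} (hab : a ≠ b) (hce : c ≠ e) :
    ∃ σ ∈ alternatingGroup (Fin n), σ a = c ∧ σ b = e := by
  haveI := alternatingGroup.isMultiplyPretransitive (Fin n)
  haveI : MulAction.IsMultiplyPretransitive (alternatingGroup (Fin n)) (Fin n) 2 :=
    MulAction.isMultiplyPretransitive_of_le (n := Nat.card (Fin n) - 2) (by simp; omega) (Nat.sub_le _ _)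
  obtain ⟨g, h1, h2⟩ := MulAction.is_two_pretransitive_iff.1 this hab hce
  exact ⟨g, g.2, h1, h2⟩

theorem exists_mem_alt (h5 : 5 ≤ n) (a c : Fin n) : ∃ σ ∈ alternatingGroup (Fin n), σ a = c := by
  haveI : Nontrivial (Fin n) := Fin.nontrivial_iff_two_le.2 (by omega)
  obtain ⟨b, hb⟩ := exists_ne a
  obtain ⟨e, he⟩ := exists_ne c
  obtain ⟨σ, h1, h2, -⟩ := exists_mem_alt_two h5 hb.symm he.symm
  exact ⟨σ, h1, h2⟩

/-! ### Perfect residual and images -/

variable {G : Type*} [Group G]

/-- The largest perfect subgroup. -/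
def res (X : Subgroup G) : Subgroup G := ⨆ (Y : Subgroup G) (_ : Y ≤ X ∧ ⁅Y, Y⁆ = Y), Y

theorem res_le (X : Subgroup G) : res X ≤ X := iSup₂_le fun _ h => h.1

theorem le_res {X Y : Subgroup G} (h : Y ≤ X) (hY : ⁅Y, Y⁆ = Y) : Y ≤ res X :=
  le_iSup₂ (f := fun Z (_ : Z ≤ X ∧ ⁅Z, Z⁆ = Z) => Z) Y ⟨h, hY⟩

theorem commutator_res (X : Subgroup G) : ⁅res X, res X⁆ = res X := by
  refine le_antisymm (Subgroup.commutator_le_self _) (iSup₂_le fun Y h => ?_)
  exact h.2.ge.trans (Subgroup.commutator_mono (le_res h.1 h.2) (le_res h.1 h.2))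

theorem res_mono {X Y : Subgroup G} (h : X ≤ Y) : res X ≤ res Y :=
  le_res ((res_le X).trans h) (commutator_res X)

theorem map_res {G' : Type*} [Group G'] (e : G ≃* G') (X : Subgroup G) :
    (res X).map e.toMonoidHom = res (X.map e.toMonoidHom) := by
  refine le_antisymm (le_res (Subgroup.map_mono (res_le X)) (by rw [← Subgroup.map_commutator, commutator_res])) ?_
  intro y hy
  refine ⟨e.symm y, le_res (X := X) (Y := (res (X.map e.toMonoidHom)).map e.symm.toMonoidHom) ?_ ?_
    ⟨y, hy, rfl⟩, by simp⟩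
  · rintro _ ⟨z, hz, rfl⟩
    obtain ⟨x, hx, rfl⟩ := res_le _ hz
    simpa using hx
  · rw [← Subgroup.map_commutator, commutator_res]

theorem le_normalizer_res {H X : Subgroup G} (h : H ≤ Subgroup.normalizer (X : Set G)) :
    H ≤ Subgroup.normalizer (res X : Set G) := fun g hg => by
  rw [Subgroup.mem_normalizer_iff_map_conj_eq]
  exact (map_res (MulAut.conj g) X).trans (congrArg res (Subgroup.mem_normalizer_iff_map_conj_eq.1 (h hg)))

/-- The image of a subgroup under a hom defined on a larger subgroup. -/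
def img {H : Subgroup G} {P : Type*} [Group P] (f : ↥H →* P) (X : Subgroup G) : Subgroup P :=
  (X.subgroupOf H).map f

theorem mem_img {H : Subgroup G} {P : Type*} [Group P] {f : ↥H →* P} {X : Subgroup G} {y : P} :
    y ∈ img f X ↔ ∃ x : ↥H, (x : G) ∈ X ∧ f x = y := Iff.rfl

theorem img_mono {H : Subgroup G} {P : Type*} [Group P] (f : ↥H →* P) {X Y : Subgroup G} (h : X ≤ Y) :
    img f X ≤ img f Y := by
  rintro _ ⟨x, hx, rfl⟩
  exact ⟨x, h hx, rfl⟩

theorem img_commutator {H : Subgroup G} {P : Type*} [Group P] (f : ↥H →* P) {X Y : Subgroup G}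
    (hX : X ≤ H) (hY : Y ≤ H) : img f ⁅X, Y⁆ = ⁅img f X, img f Y⁆ := by
  rw [img, img, img, ← Subgroup.map_commutator]
  congr 1
  apply Subgroup.map_injective H.subtype_injective
  rw [Subgroup.map_commutator, Subgroup.map_subgroupOf_eq_of_le hX, Subgroup.map_subgroupOf_eq_of_le hY,
    Subgroup.map_subgroupOf_eq_of_le]
  exact (Subgroup.commutator_mono hX hY).trans (Subgroup.commutator_le_self _)

theorem range_le_normalizer_img {H : Subgroup G} {P : Type*} [Group P] (f : ↥H →* P) {N : Subgroup G}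
    (hn : H ≤ Subgroup.normalizer (N : Set G)) : f.range ≤ Subgroup.normalizer (img f N : Set P) := by
  haveI : (N.subgroupOf H).Normal := Subgroup.normal_subgroupOf_of_le_normalizer hn
  rw [MonoidHom.range_eq_map]
  refine le_trans (Subgroup.map_mono ?_) (Subgroup.le_normalizer_map f)
  rw [Subgroup.normalizer_eq_top]

theorem le_img_res [Finite G] {H : Subgroup G} {P : Type*} [Group P] (f : ↥H →* P) {X : Subgroup G}
    (hX : X ≤ H) {A : Subgroup P} (hA : ⁅A, A⁆ = A) (hAX : A ≤ img f X) : A ≤ img f (res X) := by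
  suffices h : ∀ (m : ℕ) (Y : Subgroup G), Nat.card Y ≤ m → Y ≤ X → A ≤ img f Y → A ≤ img f (res X) from
    h _ X le_rfl le_rfl hAX
  intro m
  induction m with
  | zero => intro Y hY; exact absurd hY (Nat.card_pos).not_ge
  | succ m ih =>
    intro Y hYm hYX hAY
    by_cases hp : ⁅Y, Y⁆ = Y
    · exact hAY.trans (img_mono f (le_res hYX hp))
    · refine ih ⁅Y, Y⁆ ?_ ((Subgroup.commutator_le_self Y).trans hYX) ?_
      · by_contra hlt
        exact hp (Subgroup.eq_of_le_of_card_ge (Subgroup.commutator_le_self Y) (by omega))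
      · rw [img_commutator f (hYX.trans hX) (hYX.trans hX), ← hA]
        exact Subgroup.commutator_mono hAY hAY

end Cfsg.Agent.Lib.SuborbitAlt
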