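import Cfsg.Agent.Lib.SuborbitAlt.Meet

/-!
# The structure of the stabilizer

Owner: helper64.
-/

set_option autoImplicit false
set_option linter.style.haveILetI false

open Equiv

namespace Cfsg.Agent.Lib.SuborbitAlt

open Cfsg.Agent.Lib.ThompsonWielandt

variable {G : Type*} [Group G] [Finite G] {H K : Subgroup G} {d : ℕ}

theorem units_int_eq_of_ne_ne {a b c : ℤˣ} (h1 : a ≠ b) (h2 : c ≠ b) : a = c := by
  rcases Int.units_eq_one_or a with rfl | rfl <;> rcases Int.units_eq_one_or b with rfl | rfl <;>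
    rcases Int.units_eq_one_or c with rfl | rfl <;> simp_all

theorem stabilizer_structure (hp : Pair H K) (hg : Giant H K d) (h6 : 6 ≤ d) (hne : kern H K ≠ ⊥) :
    (2 * (kern H K).relIndex H = d.factorial ∧
      Nonempty (↥H ≃* alternatingGroup (Fin d) × alternatingGroup (Fin (d - 1)))) ∨
    ((kern H K).relIndex H = d.factorial ∧
      (Nonempty (↥H ≃* Perm (Fin d) × Perm (Fin (d - 1))) ∨
       Nonempty (↥H ≃* ((Perm.sign.comp (MonoidHom.fst (Perm (Fin d)) (Perm (Fin (d - 1))))) *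
         (Perm.sign.comp (MonoidHom.snd (Perm (Fin d)) (Perm (Fin (d - 1)))))).ker))) := by
  classical
  have hD := meet_eq_bot hp hg h6
  obtain ⟨hg', hcardk, -⟩ := both_sides hp hg h6
  obtain ⟨r⟩ := hg.exists_rep
  obtain ⟨s⟩ := hg'.exists_small
  set H1 := kern H K with hH1
  set K1 := kern K H with hK1
  have hH1J : H1 ≤ K ⊓ H := inf_comm H K ▸ kern_le_inf H K
  have hpsiH1 : alternatingGroup (Fin (d - 1)) ≤ img s.psi H1 := (s.le_kern_or h6 hH1J
    (inf_le_right.trans (le_normalizer_kern H K))).resolve_left fun h =>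
      hne (le_bot_iff.1 ((le_inf le_rfl h).trans hD.le))
  set C := H ⊓ Subgroup.centralizer (H1 : Set G) with hC
  have hCn : H ≤ Subgroup.normalizer (C : Set G) := by
    intro h hh
    rw [Subgroup.mem_normalizer_iff_map_conj_eq]
    refine Subgroup.eq_of_le_of_card_ge ?_ (Subgroup.card_map_of_injective (MulAut.conj h).injective).ge
    rintro _ ⟨c, hc, rfl⟩
    refine ⟨H.mul_mem (H.mul_mem hh hc.1) (H.inv_mem hh), Subgroup.mem_centralizer_iff.2 fun z hz => ?_⟩
    have := Subgroup.mem_centralizer_iff.1 hc.2 _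
      ((Subgroup.mem_normalizer_iff''.1 (le_normalizer_kern H K hh) z).1 hz)
    show z * (h * c * h⁻¹) = h * c * h⁻¹ * z
    calc z * (h * c * h⁻¹) = h * ((h⁻¹ * z * h) * c) * h⁻¹ := by group
      _ = h * (c * (h⁻¹ * z * h)) * h⁻¹ := by rw [this]
      _ = _ := by group
  have hK1C : K1 ≤ C := by
    refine le_inf (kern_le_right K H) (Subgroup.commutator_eq_bot_iff_le_centralizer.1 (le_bot_iff.1 ?_))
    refine le_trans (le_inf ?_ ?_) hD.le
    · exact Subgroup.le_normalizer_iff_commutator_le_right.1 ((kern_le_right K H).trans (le_normalizer_kern H K))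
    · exact Subgroup.le_normalizer_iff_commutator_le_left.1 ((kern_le_right H K).trans (le_normalizer_kern K H))
  have hCJ : ∀ x : ↥(K ⊓ H), (x : G) ∈ C → s.psi x = 1 := by
    intro x hx
    rw [← Subgroup.mem_bot, ← centralizer_alt (show 5 ≤ d - 1 by omega), Subgroup.mem_centralizer_iff]
    intro z hz
    obtain ⟨w, hw, rfl⟩ := hpsiH1 hz
    rw [← map_mul, ← map_mul]
    exact congrArg s.psi (Subtype.ext (Subgroup.mem_centralizer_iff.1 hx.2 w hw))
  have hCA : alternatingGroup (Fin d) ≤ img r.phi C := (r.le_kern_or (by omega) inf_le_left hCn).resolve_left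
    fun h => by
      have hK : K1 = ⊥ := le_bot_iff.1 fun x hx => hD.le ⟨h (hK1C hx), hx⟩
      have hc : Nat.card H1 = 1 := hcardk ▸ Subgroup.card_eq_one.2 hK
      exact hne (Subgroup.card_eq_one.1 hc)
  haveI : (C.subgroupOf H).Normal := Subgroup.normal_subgroupOf_of_le_normalizer hCn
  let f : ↥(K ⊓ H) →* ↥H ⧸ C.subgroupOf H := (QuotientGroup.mk' _).comp (Subgroup.inclusion inf_le_right)
  have hfsurj : Function.Surjective f := by
    intro q
    obtain ⟨h, rfl⟩ := QuotientGroup.mk'_surjective _ q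
    obtain ⟨σ, hσ, hi⟩ := exists_mem_alt (show 5 ≤ d by omega) r.i0 (r.phi h r.i0)
    obtain ⟨c, hc, rfl⟩ := hCA hσ
    have hj := r.eq_of_eq hi
    refine ⟨⟨(c : G)⁻¹ * h, inf_comm H K ▸ hj⟩, ?_⟩
    show QuotientGroup.mk' _ (⟨(c : G)⁻¹ * h, hj.1⟩ : ↥H) = _
    simp only [QuotientGroup.mk'_apply, QuotientGroup.eq, Subgroup.mem_subgroupOf, Subgroup.coe_mul,
      Subgroup.coe_inv, mul_inv_rev, inv_inv]
    exact (Subgroup.mem_normalizer_iff''.1 (hCn h.2) _).1 hc
  have hfker : f.ker ≤ s.psi.ker := fun x hx =>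
    hCJ x ((QuotientGroup.eq_one_iff (Subgroup.inclusion (inf_le_right : K ⊓ H ≤ H) x)).1 hx)
  let psiH : ↥H →* Perm (Fin (d - 1)) :=
    (f.liftOfSurjective hfsurj ⟨s.psi, hfker⟩).comp (QuotientGroup.mk' _)
  have hpsi : ∀ x : ↥(K ⊓ H), psiH (Subgroup.inclusion inf_le_right x) = s.psi x := fun x =>
    MonoidHom.liftOfRightInverse_comp_apply f _ (Function.rightInverse_surjInv hfsurj) ⟨s.psi, hfker⟩ x
  have hpsiC : ∀ c : ↥H, (c : G) ∈ C → psiH c = 1 := fun c hc => by
    show f.liftOfSurjective hfsurj ⟨s.psi, hfker⟩ (QuotientGroup.mk' _ c) = 1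
    rw [QuotientGroup.mk'_apply, (QuotientGroup.eq_one_iff c).2 (show c ∈ C.subgroupOf H from hc), map_one]
  let Phi : ↥H →* Perm (Fin d) × Perm (Fin (d - 1)) := r.phi.prod psiH
  have hinj : Function.Injective Phi := by
    rw [injective_iff_map_eq_one]
    intro x hx
    obtain ⟨hx1, hx2⟩ := Prod.ext_iff.1 hx
    have h1 : (x : G) ∈ H1 := (r.ker x).1 hx1
    have h2 : (x : G) ∈ K1 := (s.ker ⟨x, hH1J h1⟩).1 ((hpsi ⟨x, hH1J h1⟩).symm.trans hx2)
    exact Subtype.ext (Subgroup.mem_bot.1 (hD.le ⟨h1, h2⟩))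
  have hprod : ∀ (a : Perm (Fin d)) (b : Perm (Fin (d - 1))), a ∈ alternatingGroup (Fin d) →
      b ∈ alternatingGroup (Fin (d - 1)) → (a, b) ∈ Phi.range := by
    intro a b ha hb
    obtain ⟨c, hc, rfl⟩ := hCA ha
    obtain ⟨w, hw, rfl⟩ := hpsiH1 hb
    refine ⟨c * Subgroup.inclusion inf_le_right w, Prod.ext ?_ ?_⟩
    · show r.phi (c * _) = _
      rw [map_mul, (r.ker _).2 (show ((Subgroup.inclusion inf_le_right w : ↥H) : G) ∈ H1 from hw), mul_one]
    · show psiH (c * _) = _
      rw [map_mul, hpsiC c hc, one_mul, hpsi]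
  -- orders of the two images
  have hpr : psiH.range = s.psi.range := by
    refine le_antisymm ?_ (by rintro _ ⟨x, rfl⟩; exact ⟨_, hpsi x⟩)
    rintro _ ⟨h, rfl⟩
    obtain ⟨x, hx⟩ := hfsurj (QuotientGroup.mk' _ h)
    refine ⟨x, ?_⟩
    show s.psi x = f.liftOfSurjective hfsurj ⟨s.psi, hfker⟩ (QuotientGroup.mk' _ h)
    rw [← hx]
    exact (MonoidHom.liftOfRightInverse_comp_apply f _ (Function.rightInverse_surjInv hfsurj) ⟨s.psi, hfker⟩ x).symm
  have c1 : Nat.card r.phi.range = H1.relIndex H := ker_rel_eq (K := K) r.phi r.ker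
  have c2 : d * Nat.card psiH.range = H1.relIndex H := by
    rw [hpr, ker_rel_eq (K := H) s.psi s.ker, ← hg'.rel, mul_comm,
      Subgroup.relIndex_mul_relIndex _ _ _ (kern_le_inf K H) inf_le_left]
    have e1 := Subgroup.relIndex_mul_relIndex (⊥ : Subgroup G) H1 H bot_le (kern_le H K)
    have e2 := Subgroup.relIndex_mul_relIndex (⊥ : Subgroup G) K1 K bot_le (kern_le K H)
    rw [Subgroup.relIndex_bot_left, Subgroup.relIndex_bot_left] at e1 e2
    rw [hp.card_eq, ← e1, hcardk] at e2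
    exact Nat.eq_of_mul_eq_mul_left Nat.card_pos e2
  have i1 := Subgroup.card_mul_index r.phi.range
  have i2 := Subgroup.card_mul_index psiH.range
  rw [Nat.card_perm, Nat.card_fin] at i1 i2
  have hidx : psiH.range.index = r.phi.range.index := by
    refine Nat.eq_of_mul_eq_mul_left (show 0 < d * Nat.card psiH.range from Nat.mul_pos (by omega) Nat.card_pos) ?_
    rw [mul_assoc, i2, c2, ← c1, i1, Nat.mul_factorial_pred (by omega)]
  have hidx2 : r.phi.range.index ≤ 2 := by
    have := hg.big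
    rw [← c1, ← i1, mul_comm 2] at this
    exact Nat.le_of_mul_le_mul_left this Nat.card_pos
  have hpos : 0 < r.phi.range.index := Nat.pos_of_ne_zero Subgroup.index_ne_zero_of_finite
  rcases (show r.phi.range.index = 2 ∨ r.phi.range.index = 1 by omega) with h2 | h1
  · left
    rw [h2] at i1
    refine ⟨by rw [← c1, mul_comm, i1], ?_⟩
    have e1 := Equiv.Perm.eq_alternatingGroup_of_index_eq_two h2
    have e2 := Equiv.Perm.eq_alternatingGroup_of_index_eq_two (hidx.trans h2)
    have hr : Phi.range = (alternatingGroup (Fin d)).prod (alternatingGroup (Fin (d - 1))) := by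
      refine le_antisymm ?_ ?_
      · rintro _ ⟨x, rfl⟩
        exact ⟨e1.le ⟨x, rfl⟩, e2.le ⟨x, rfl⟩⟩
      · rintro ⟨a, b⟩ ⟨ha, hb⟩
        exact hprod a b ha hb
    exact ⟨(MonoidHom.ofInjective hinj).trans ((MulEquiv.subgroupCongr hr).trans (Subgroup.prodEquiv _ _))⟩
  · right
    rw [h1, mul_one] at i1
    refine ⟨c1 ▸ i1, ?_⟩
    have hphi : ∀ a, ∃ x, r.phi x = a := fun a => by
      rw [← MonoidHom.mem_range, Subgroup.index_eq_one.1 h1]; trivial
    have hpsiS : ∀ b, ∃ x, psiH x = b := fun b => by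
      rw [← MonoidHom.mem_range, Subgroup.index_eq_one.1 (hidx.trans h1)]; trivial
    have hsame : ∀ (x : ↥H) (a : Perm (Fin d)) (b : Perm (Fin (d - 1))), Perm.sign (r.phi x) = Perm.sign a →
        Perm.sign (psiH x) = Perm.sign b → (a, b) ∈ Phi.range := by
      intro x a b ha hb
      have := Phi.range.mul_mem (hprod (a * (r.phi x)⁻¹) (b * (psiH x)⁻¹)
        (by simp [Equiv.Perm.mem_alternatingGroup, ha]) (by simp [Equiv.Perm.mem_alternatingGroup, hb])) ⟨x, rfl⟩
      simpa [Phi] using this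
    by_cases hall : ∀ x : ↥H, Perm.sign (r.phi x) = Perm.sign (psiH x)
    · right
      refine ⟨(MonoidHom.ofInjective hinj).trans (MulEquiv.subgroupCongr (le_antisymm ?_ ?_))⟩
      · rintro _ ⟨x, rfl⟩
        show Perm.sign (r.phi x) * Perm.sign (psiH x) = 1
        rw [hall, Int.units_mul_self]
      · rintro ⟨a, b⟩ hab
        obtain ⟨x, hx⟩ := hphi a
        refine hsame x a b (by rw [hx]) ?_
        rw [← hall, hx]
        have hab' : Perm.sign a * Perm.sign b = 1 := hab
        rwa [mul_eq_one_iff_eq_inv, Int.units_inv_eq_self] at hab'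
    · left
      push Not at hall
      obtain ⟨x0, hx0⟩ := hall
      have hz : ∃ z : ↥H, Perm.sign (r.phi z) = 1 ∧ Perm.sign (psiH z) = -1 := by
        rcases Int.units_eq_one_or (Perm.sign (r.phi x0)) with h | h
        · exact ⟨x0, h, (Int.units_eq_one_or _).resolve_left fun e => hx0 (h.trans e.symm)⟩
        · have h' : Perm.sign (psiH x0) = 1 :=
            (Int.units_eq_one_or _).resolve_right fun e => hx0 (h.trans e.symm)
          haveI : Nontrivial (Fin (d - 1)) := Fin.nontrivial_iff_two_le.2 (by omega)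
          obtain ⟨t, ht⟩ := Equiv.Perm.sign_surjective (Fin (d - 1)) (-1)
          obtain ⟨w, rfl⟩ := hpsiS t
          rcases Int.units_eq_one_or (Perm.sign (r.phi w)) with hw | hw
          · exact ⟨w, hw, ht⟩
          · exact ⟨w * x0, by simp [hw, h], by simp [ht, h']⟩
      obtain ⟨z, hz1, hz2⟩ := hz
      refine ⟨(MonoidHom.ofInjective hinj).trans ((MulEquiv.subgroupCongr (eq_top_iff.2 ?_)).trans Subgroup.topEquiv)⟩
      rintro ⟨a, b⟩ -
      obtain ⟨x, hx⟩ := hphi a
      by_cases hb : Perm.sign (psiH x) = Perm.sign b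
      · exact hsame x a b (by rw [hx]) hb
      · refine hsame (z * x) a b (by simp [hz1, hx]) ?_
        refine units_int_eq_of_ne_ne (b := Perm.sign (psiH x)) ?_ (Ne.symm hb)
        rw [map_mul, map_mul, hz2]
        intro e
        rcases Int.units_eq_one_or (Perm.sign (psiH x)) with h | h <;> simp [h] at e

end Cfsg.Agent.Lib.SuborbitAlt
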