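import Mathlib

/-!
# Subdirect products of copies of a perfect simple group with pairwise distinct kernels

Owner: helper64.
-/

set_option autoImplicit false
set_option linter.style.haveILetI false

open scoped commutatorElement

namespace Cfsg.Agent.Lib.SuborbitAlt.Subdirect

variable {R Y ι : Type*} [Group R] [Finite R] [Group Y] [IsSimpleGroup Y]

/-- The intersection of the kernels other than the `i`-th one. -/
def factor (f : ι → R →* Y) (i : ι) : Subgroup R := ⨅ l, ⨅ (_ : l ≠ i), (f l).ker

omit [Finite R] [IsSimpleGroup Y] in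
theorem mem_factor {f : ι → R →* Y} {i : ι} {x : R} : x ∈ factor f i ↔ ∀ l, l ≠ i → f l x = 1 := by
  simp [factor, Subgroup.mem_iInf, MonoidHom.mem_ker]

variable [Finite ι] (f : ι → R →* Y) (hf : ∀ i, Function.Surjective (f i))
  (hY : commutator Y = ⊤) (hne : ∀ i j, i ≠ j → (f i).ker ≠ (f j).ker)

include hf hne in
omit [Finite ι] in
theorem map_ker_eq_top {i j : ι} (hij : i ≠ j) : (f j).ker.map (f i) = ⊤ := by
  haveI : ((f j).ker.map (f i)).Normal := Subgroup.Normal.map inferInstance _ (hf i)
  refine (Subgroup.Normal.eq_bot_or_eq_top inferInstance).resolve_left fun h => ?_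
  rw [Subgroup.map_eq_bot_iff] at h
  refine hne j i hij.symm (Subgroup.eq_of_le_of_card_ge h ?_)
  have hi := Subgroup.card_mul_index (f i).ker
  have hj := Subgroup.card_mul_index (f j).ker
  rw [Subgroup.index_ker, MonoidHom.range_eq_top.2 (hf i), Subgroup.card_top] at hi
  rw [Subgroup.index_ker, MonoidHom.range_eq_top.2 (hf j), Subgroup.card_top] at hj
  haveI : Finite Y := Finite.of_surjective _ (hf i)
  exact (Nat.eq_of_mul_eq_mul_right Nat.card_pos (hi.trans hj.symm)).le

include hf hY hne in
theorem map_factor (i : ι) : (factor f i).map (f i) = ⊤ := by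
  classical
  haveI := Fintype.ofFinite ι
  suffices h : ∀ s : Finset ι, i ∉ s → (⨅ l ∈ s, (f l).ker).map (f i) = ⊤ by
    have := h (Finset.univ.erase i) (Finset.notMem_erase i _)
    simpa [factor] using this
  intro s
  induction s using Finset.induction_on with
  | empty => intro _; simpa using Subgroup.map_top_of_surjective _ (hf i)
  | insert a s has ih =>
    intro hi
    simp only [Finset.mem_insert, not_or] at hi
    have hb := ih hi.2
    set B := ⨅ l ∈ s, (f l).ker with hB
    haveI : B.Normal := Subgroup.normal_iInf_normal fun l => Subgroup.normal_iInf_normal fun _ => inferInstance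
    rw [Finset.iInf_insert, ← hB, eq_top_iff, ← hY, commutator_def]
    calc ⁅(⊤ : Subgroup Y), (⊤ : Subgroup Y)⁆ = ⁅((f a).ker).map (f i), B.map (f i)⁆ := by
          rw [map_ker_eq_top f hf hne hi.1, hb]
      _ = ⁅(f a).ker, B⁆.map (f i) := (Subgroup.map_commutator _ _ _).symm
      _ ≤ _ := Subgroup.map_mono (Subgroup.commutator_le_inf _ _)

omit [Finite R] [IsSimpleGroup Y] [Finite ι] in
theorem eq_one_of_factor (hinj : ∀ x, (∀ l, f l x = 1) → x = 1) {i : ι} {x : R} (hx : x ∈ factor f i)
    (hxi : f i x = 1) : x = 1 := by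
  refine hinj x fun l => ?_
  by_cases h : l = i
  · exact h ▸ hxi
  · exact mem_factor.1 hx l h

include hf hY hne in
theorem iSup_factor (hinj : ∀ x, (∀ l, f l x = 1) → x = 1) : ⨆ i, factor f i = ⊤ := by
  classical
  haveI := Fintype.ofFinite ι
  refine eq_top_iff.2 fun x _ => ?_
  suffices h : ∀ s : Finset ι, ∃ m ∈ ⨆ i, factor f i, ∀ l ∈ s, f l m = f l x by
    obtain ⟨m, hm, hl⟩ := h Finset.univ
    have : m⁻¹ * x = 1 := hinj _ fun l => by simp [hl l (Finset.mem_univ l)]
    rwa [← inv_mul_eq_one.1 this]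
  intro s
  induction s using Finset.induction_on with
  | empty => exact ⟨1, one_mem _, by simp⟩
  | insert a s has ih =>
    obtain ⟨m, hm, hl⟩ := ih
    obtain ⟨u, hu, hua⟩ : f a (m⁻¹ * x) ∈ (factor f a).map (f a) := by
      rw [map_factor f hf hY hne a]; trivial
    refine ⟨m * u, mul_mem hm (Subgroup.mem_iSup_of_mem a hu), fun l hls => ?_⟩
    rcases Finset.mem_insert.1 hls with rfl | hls
    · rw [map_mul, hua, ← map_mul, mul_inv_cancel_left]
    · rw [map_mul, mem_factor.1 hu l (fun e => has (e ▸ hls)), mul_one, hl l hls]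

include hf hY hne in
theorem factor_le (hinj : ∀ x, (∀ l, f l x = 1) → x = 1) {S : Subgroup R} [S.Normal] {i : ι}
    (hS : S.map (f i) = ⊤) : factor f i ≤ S := by
  intro x hx
  haveI : (factor f i).Normal :=
    Subgroup.normal_iInf_normal fun l => Subgroup.normal_iInf_normal fun _ => inferInstance
  have h : ⁅S, factor f i⁆.map (f i) = ⊤ := by
    rw [Subgroup.map_commutator, hS, map_factor f hf hY hne i, ← commutator_def, hY]
  obtain ⟨y, hy, hyx⟩ : f i x ∈ ⁅S, factor f i⁆.map (f i) := by rw [h]; trivial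
  have hy' := Subgroup.commutator_le_inf S (factor f i) hy
  have : y⁻¹ * x = 1 := eq_one_of_factor f hinj (mul_mem (inv_mem hy'.2) hx) (by simp [hyx])
  rw [← inv_mul_eq_one.1 this]
  exact hy'.1

end Cfsg.Agent.Lib.SuborbitAlt.Subdirect
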