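import Cfsg.Agent.Lib.SuborbitAlt.Side
import Cfsg.Agent.Lib.SuborbitAlt.Subdirect

/-!
# The two kernels meet trivially

Owner: helper64.
-/

set_option autoImplicit false
set_option linter.style.haveILetI false

open Equiv
open scoped commutatorElement

namespace Cfsg.Agent.Lib.SuborbitAlt

open Cfsg.Agent.Lib.ThompsonWielandt

variable {G : Type*} [Group G] [Finite G] {H K : Subgroup G} {d : ℕ}

omit [Finite G] in
theorem le_normalizer_meet (H K : Subgroup G) :
    kern H K ≤ Subgroup.normalizer ((kern H K ⊓ kern K H : Subgroup G) : Set G) := fun _ hx =>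
  Subgroup.inf_normalizer_le_normalizer_inf
    ⟨Subgroup.le_normalizer hx, le_normalizer_kern K H (kern_le_right H K hx)⟩

/-- If the meet of the kernels is not trivial, the perfect residual of the kernel in `H` splits. -/
theorem split_of_meet_ne_bot (h6 : 6 ≤ d) (r : Rep H K d) (s : Small K H d)
    (hP : secondKernel H K = ⊥) {g : G} (hconj : K = H.map (MulAut.conj g).toMonoidHom)
    (hN : (kern K H).map (MulAut.conj g⁻¹).toMonoidHom ≤ kern H K) (hD : kern H K ⊓ kern K H ≠ ⊥) :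
    secondKernel K H = ⊥ ∧ ∃ M : Fin d → Subgroup G,
      (∀ i, M i ≤ kern H K) ∧ (∀ i, M i ≠ ⊥) ∧ M r.i0 ⊓ kern K H = ⊥ ∧
      (∀ i, i ≠ r.i0 → M i ≤ kern K H) ∧ (∀ i j, i ≠ j → M i ⊓ M j = ⊥) ∧
      ∀ (h : ↥H) (i : Fin d) (x : G), x ∈ M i → (h : G) * x * (h : G)⁻¹ ∈ M (r.phi h i) := by
  classical
  set H1 := kern H K with hH1
  set K1 := kern K H with hK1
  set R := res H1 with hRdef
  set A := alternatingGroup (Fin (d - 1)) with hAdef
  have h5 : 5 ≤ d - 1 := by omega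
  have hH1J : H1 ≤ K ⊓ H := inf_comm H K ▸ kern_le_inf H K
  have hRJ : R ≤ K ⊓ H := (res_le _).trans hH1J
  have hRn : H ≤ Subgroup.normalizer (R : Set G) := le_normalizer_res (le_normalizer_kern H K)
  have hcore : ∀ N : Subgroup G, N ≤ H1 → N ≤ K1 → H ≤ Subgroup.normalizer (N : Set G) → N = ⊥ :=
    fun N h1 h2 hn => le_bot_iff.1 (hP ▸ secondKernel_eq H K ▸
      le_coreIn (h1.trans (kern_le H K)) (le_inf h1 h2) hn)
  have hpsiH1 : A ≤ img s.psi H1 := (s.le_kern_or h6 hH1J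
    (inf_le_right.trans (le_normalizer_kern H K))).resolve_left fun h => hD (le_bot_iff.1
      (inf_le_left.trans (hcore H1 le_rfl h (le_normalizer_kern H K)).le))
  have hpsiR : img s.psi R = A := le_antisymm
    (perfect_le_alt h5 (by rw [← img_commutator s.psi hRJ hRJ, commutator_res]))
    (le_img_res s.psi hH1J (commutator_alt h5) hpsiH1)
  have hmem : ∀ (h : ↥H) (x : ↥R), (h : G)⁻¹ * x * h ∈ R := fun h x =>
    (Subgroup.mem_normalizer_iff''.1 (hRn h.2) x).1 x.2
  let u : ↥H → (↥R →* ↥A) := fun h => MonoidHom.mk'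
    (fun x => ⟨s.psi ⟨(h : G)⁻¹ * x * h, hRJ (hmem h x)⟩, hpsiR.le ⟨_, hmem h x, rfl⟩⟩) fun x y => by
      apply Subtype.ext
      show s.psi _ = s.psi _ * s.psi _
      rw [← map_mul]
      refine congrArg s.psi (Subtype.ext ?_)
      simp [mul_assoc]
  have hu1 : ∀ (h : ↥H) (x : ↥R), u h x = 1 ↔ (h : G)⁻¹ * x * h ∈ K1 := fun h x => by
    rw [← Subtype.coe_inj]
    exact s.ker _
  have hsurj : ∀ h, Function.Surjective (u h) := by
    intro h y
    obtain ⟨z, hz, hzy⟩ := hpsiR.ge y.2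
    refine ⟨⟨(h : G) * z * (h : G)⁻¹, (Subgroup.mem_normalizer_iff.1 (hRn h.2) _).1 hz⟩, Subtype.ext ?_⟩
    refine Eq.trans (congrArg s.psi (Subtype.ext ?_)) hzy
    simp [mul_assoc]
  have huniq : ∀ (h h' : ↥H), r.phi h r.i0 = r.phi h' r.i0 → ∀ x : ↥R, u h x = 1 → u h' x = 1 := by
    intro h h' he x hx
    rw [hu1] at hx ⊢
    have hj := r.eq_of_eq he
    have := (Subgroup.mem_normalizer_iff''.1 (le_normalizer_kern K H hj.2) _).1 hx
    simpa [mul_assoc] using this
  have htrans : ∀ i, ∃ h : ↥H, r.phi h r.i0 = i := fun i => by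
    obtain ⟨σ, hσ, hi⟩ := exists_mem_alt (show 5 ≤ d by omega) r.i0 i
    obtain ⟨h, rfl⟩ := r.alt hσ
    exact ⟨h, hi⟩
  choose sec hsec using htrans
  let F : Fin d → (↥R →* ↥A) := fun i => u (sec i)
  have hF : ∀ (h : ↥H) (x : ↥R), F (r.phi h r.i0) x = 1 ↔ (h : G)⁻¹ * x * h ∈ K1 := fun h x =>
    ⟨fun hx => (hu1 h x).1 (huniq _ _ (hsec _) x hx), fun hx => huniq _ _ (hsec _).symm x ((hu1 h x).2 hx)⟩
  have hF0 : ∀ x : ↥R, F r.i0 x = 1 ↔ (x : G) ∈ K1 := fun x => by
    have := hF 1 x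
    simpa using this
  let c : ↥H → ↥R → ↥R := fun h x =>
    ⟨(h : G) * x * (h : G)⁻¹, (Subgroup.mem_normalizer_iff.1 (hRn h.2) _).1 x.2⟩
  have hequiv : ∀ (h : ↥H) (i : Fin d) (x : ↥R), F (r.phi h i) (c h x) = 1 ↔ F i x = 1 := by
    intro h i x
    rw [← hsec i, ← Perm.mul_apply, ← map_mul, hF, hF]
    simp [c, mul_assoc]
  have hinj : ∀ x, (∀ l, F l x = 1) → x = 1 := by
    intro x hx
    apply Subtype.ext
    show (x : G) = 1
    rw [← Subgroup.mem_bot, ← hP, secondKernel_eq, mem_coreIn]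
    refine ⟨(hRJ x.2).2, fun k hk => ⟨res_le _ ((Subgroup.mem_normalizer_iff.1 (hRn hk) _).1 x.2), ?_⟩⟩
    have := (hF (⟨k, hk⟩⁻¹ : ↥H) x).1 (hx _)
    simpa using this
  have hne : ∀ i j, i ≠ j → (F i).ker ≠ (F j).ker := by
    intro i j hij he
    -- all kernels are equal, so `R` meets the kernel in `K` trivially and `D` centralizes `R`
    have hall : ∀ e : Fin d, e ≠ r.i0 → ∀ y : ↥R, F r.i0 y = 1 → F e y = 1 := by
      intro e hne' y hy
      obtain ⟨σ, hσ, hσi, hσj⟩ := exists_mem_alt_two (show 5 ≤ d by omega) hij hne'.symm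
      obtain ⟨h, rfl⟩ := r.alt hσ
      have e1 : c h (c h⁻¹ y) = y := Subtype.ext (by simp [c, mul_assoc])
      rw [← hσi, ← e1, hequiv, ← MonoidHom.mem_ker, he, MonoidHom.mem_ker] at hy
      rwa [← hσj, ← e1, hequiv]
    have hRK : R ⊓ K1 = ⊥ := (Subgroup.eq_bot_iff_forall _).2 fun x hx => by
      have h0 : F r.i0 ⟨x, hx.1⟩ = 1 := (hF0 _).2 hx.2
      exact congrArg Subtype.val (hinj ⟨x, hx.1⟩ fun l => by
        by_cases hl : l = r.i0
        · exact hl ▸ h0
        · exact hall l hl _ h0)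
    set D := H1 ⊓ K1 with hDdef
    have hRD : ⁅D, R⁆ = ⊥ := by
      refine le_bot_iff.1 (le_trans (le_inf ?_ ?_) hRK.le)
      · exact Subgroup.le_normalizer_iff_commutator_le_right.1 ((inf_le_left.trans (kern_le H K)).trans hRn)
      · exact (Subgroup.le_normalizer_iff_commutator_le_left.1
          ((res_le _).trans (le_normalizer_meet H K))).trans inf_le_right
    refine hD (le_bot_iff.1 fun y hy => ?_)
    rw [← hP, secondKernel_eq, mem_coreIn]
    refine ⟨kern_le H K hy.1, fun k hk => ?_⟩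
    have hcH1 : k * y * k⁻¹ ∈ H1 := (Subgroup.mem_normalizer_iff.1 (le_normalizer_kern H K hk) y).1 hy.1
    refine ⟨hcH1, (s.ker ⟨_, hH1J hcH1⟩).1 ?_⟩
    rw [← Subgroup.mem_bot, ← centralizer_alt h5, Subgroup.mem_centralizer_iff]
    intro z hz
    obtain ⟨w, hw, rfl⟩ := hpsiR.ge hz
    have hwR : (k⁻¹ * (w : G) * k) ∈ R := (Subgroup.mem_normalizer_iff''.1 (hRn hk) _).1 hw
    have hcomm := Subgroup.mem_centralizer_iff.1 (Subgroup.commutator_eq_bot_iff_le_centralizer.1 hRD hy) _ hwR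
    rw [← map_mul, ← map_mul]
    refine congrArg s.psi (Subtype.ext ?_)
    show (w : G) * (k * y * k⁻¹) = k * y * k⁻¹ * w
    calc (w : G) * (k * y * k⁻¹) = k * ((k⁻¹ * w * k) * y) * k⁻¹ := by group
      _ = k * (y * (k⁻¹ * w * k)) * k⁻¹ := by rw [hcomm]
      _ = _ := by group
  haveI : IsSimpleGroup ↥A := alternatingGroup.isSimpleGroup (by simpa using h5)
  have hA : commutator ↥A = ⊤ := commutator_alternatingGroup_eq_top (by simpa using h5)
  have hsF : ∀ i, Function.Surjective (F i) := fun i => hsurj _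
  refine ⟨?_, fun i => (Subdirect.factor F i).map R.subtype, fun i => (Subgroup.map_subtype_le _).trans (res_le _),
    fun i hi => ?_, ?_, ?_, ?_, ?_⟩
  · -- the second kernel of `K`
    by_contra hQ
    set Q := secondKernel K H with hQdef
    set N := Q.map (MulAut.conj g⁻¹).toMonoidHom with hNdef
    have hQle : Q ≤ K1 ⊓ H1 := (secondKernel_eq K H).le.trans (coreIn_le_right _ _)
    have hNH1 : N ≤ H1 := (Subgroup.map_mono (hQle.trans inf_le_left)).trans hN
    have hNn : H ≤ Subgroup.normalizer (N : Set G) := by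
      refine le_trans ?_ (Subgroup.le_normalizer_map _)
      intro a ha
      refine ⟨g * a * g⁻¹, le_normalizer_secondKernel K H ?_, by simp [mul_assoc]⟩
      rw [hconj]
      exact ⟨a, ha, rfl⟩
    have hNne : N ≠ ⊥ := fun h => hQ
      ((Subgroup.map_eq_bot_iff_of_injective _ (MulAut.conj g⁻¹).injective).1 h)
    have hNA : A ≤ img s.psi N := (s.le_kern_or h6 (hNH1.trans hH1J) (inf_le_right.trans hNn)).resolve_left
      fun h => hNne (hcore N hNH1 h hNn)
    have hNA' := le_img_res s.psi (hNH1.trans hH1J) (commutator_alt h5) hNA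
    have hresn : H ≤ Subgroup.normalizer (res N : Set G) := le_normalizer_res hNn
    haveI : ((res N).subgroupOf R).Normal :=
      Subgroup.normal_subgroupOf_of_le_normalizer ((res_le _).trans ((kern_le H K).trans hresn))
    have htop : (res N).subgroupOf R = ⊤ := by
      rw [eq_top_iff, ← Subdirect.iSup_factor F hsF hA hne hinj]
      refine iSup_le fun i => Subdirect.factor_le F hsF hA hne hinj ?_
      refine eq_top_iff.2 fun y _ => ?_
      obtain ⟨z, hz, hzy⟩ := hNA' y.2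
      have hz' : (sec i : G) * z * (sec i : G)⁻¹ ∈ res N :=
        (Subgroup.mem_normalizer_iff.1 (hresn (sec i).2) _).1 hz
      refine ⟨⟨_, res_mono hNH1 hz'⟩, hz', Subtype.ext ?_⟩
      refine Eq.trans (congrArg s.psi (Subtype.ext ?_)) hzy
      simp [mul_assoc]
    have hRle : R ≤ res N := Subgroup.subgroupOf_eq_top.1 htop
    have hres : res N = (res Q).map (MulAut.conj g⁻¹).toMonoidHom := (map_res _ Q).symm
    have hQR : res Q ≤ R ⊓ K1 := le_inf (res_mono (hQle.trans inf_le_right))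
      ((res_le _).trans (hQle.trans inf_le_left))
    have hRK : R ⊓ K1 = R := Subgroup.eq_of_le_of_card_ge inf_le_left (by
      refine le_trans ?_ (Subgroup.card_le_of_le hQR)
      have := Subgroup.card_le_of_le hRle
      rwa [hres, Subgroup.card_map_of_injective (MulAut.conj g⁻¹).injective] at this)
    refine alt_ne_bot h5 (le_bot_iff.1 fun y hy => ?_)
    obtain ⟨w, hw, rfl⟩ := hpsiR.ge hy
    exact (s.ker w).2 ((hRK.ge hw).2)
  · have h1 : (Subdirect.factor F i).map (F i) = ⊤ := Subdirect.map_factor F hsF hA hne i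
    rw [(Subgroup.map_eq_bot_iff_of_injective _ R.subtype_injective).1 hi, Subgroup.map_bot] at h1
    exact bot_ne_top h1
  · refine (Subgroup.eq_bot_iff_forall _).2 ?_
    rintro _ ⟨⟨x, hx, rfl⟩, hxK⟩
    exact congrArg Subtype.val (Subdirect.eq_one_of_factor F hinj hx ((hF0 x).2 hxK))
  · rintro i hi _ ⟨x, hx, rfl⟩
    exact (hF0 x).1 (Subdirect.mem_factor.1 hx _ hi.symm)
  · intro i j hij
    refine (Subgroup.eq_bot_iff_forall _).2 ?_
    rintro _ ⟨⟨x, hx, rfl⟩, ⟨y, hy, hyx⟩⟩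
    obtain rfl := Subtype.ext hyx
    exact congrArg Subtype.val (Subdirect.eq_one_of_factor F hinj hx (Subdirect.mem_factor.1 hy i hij))
  · rintro h i _ ⟨x, hx, rfl⟩
    refine ⟨c h x, Subdirect.mem_factor.2 fun l hl => ?_, rfl⟩
    have e : r.phi h ((r.phi h).symm l) = l := Equiv.apply_symm_apply _ _
    rw [← e, hequiv]
    exact Subdirect.mem_factor.1 hx _ fun he => hl (by rw [← e, he])

theorem meet_eq_bot_left (hp : Pair H K) (hg : Giant H K d) (h6 : 6 ≤ d) (hP : secondKernel H K = ⊥) :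
    kern H K ⊓ kern K H = ⊥ := by
  by_contra hD
  obtain ⟨hg', -, g, hgK, hN⟩ := both_sides hp hg h6
  obtain ⟨-, -, g', hgH, hN'⟩ := both_sides hp.symm hg' h6
  obtain ⟨r⟩ := hg.exists_rep
  obtain ⟨r'⟩ := hg'.exists_rep
  obtain ⟨s⟩ := hg'.exists_small
  obtain ⟨s'⟩ := hg.exists_small
  obtain ⟨hQ, M, hM1, hM2, -, hM3, hM4, hM5⟩ := split_of_meet_ne_bot h6 r s hP hgK hN hD
  obtain ⟨-, M', hM1', hM2', hM0', -, -, hM5'⟩ :=
    split_of_meet_ne_bot h6 r' s' hQ hgH hN' (by rwa [inf_comm] at hD)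
  set X := M' r'.i0 with hX
  have hXn : kern K H ≤ Subgroup.normalizer (X : Set G) := by
    intro k hk
    rw [Subgroup.mem_normalizer_iff_map_conj_eq]
    refine Subgroup.eq_of_le_of_card_ge ?_ (Subgroup.card_map_of_injective (MulAut.conj k).injective).ge
    rintro _ ⟨x, hx, rfl⟩
    have := hM5' ⟨k, kern_le K H hk⟩ r'.i0 x hx
    rwa [(r'.stab _).2 (kern_le_inf K H hk)] at this
  have hDn : kern K H ≤ Subgroup.normalizer ((kern H K ⊓ kern K H : Subgroup G) : Set G) :=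
    inf_comm (kern H K) (kern K H) ▸ le_normalizer_meet K H
  have hXD : ⁅X, (kern H K ⊓ kern K H : Subgroup G)⁆ = ⊥ := by
    refine le_bot_iff.1 (le_trans (le_inf ?_ ?_) hM0'.le)
    · exact Subgroup.le_normalizer_iff_commutator_le_left.1 (inf_le_right.trans hXn)
    · exact (Subgroup.le_normalizer_iff_commutator_le_right.1 ((hM1' _).trans hDn)).trans inf_le_left
  refine hM2' r'.i0 (le_bot_iff.1 fun x hx => hM0'.le ⟨hx, ?_⟩)
  have hxH : x ∈ H := kern_le_right K H (hM1' _ hx)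
  refine (r.ker ⟨x, hxH⟩).1 (Equiv.ext fun i => ?_)
  rw [Perm.one_apply]
  by_cases hi : i = r.i0
  · rw [hi]
    exact (r.stab _).2 ⟨hxH, kern_le K H (hM1' _ hx)⟩
  · by_contra hne
    obtain ⟨m, hm, hm1⟩ := (Subgroup.bot_or_exists_ne_one (M i)).resolve_left (hM2 i)
    refine hm1 (Subgroup.mem_bot.1 ((hM4 _ _ hne).le ⟨?_, hm⟩))
    have h1 := hM5 ⟨x, hxH⟩ i m hm
    have h2 := Subgroup.mem_centralizer_iff.1 (Subgroup.commutator_eq_bot_iff_le_centralizer.1 hXD hx) m
      ⟨hM1 i hm, hM3 i hi hm⟩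
    rwa [show x * m * x⁻¹ = m by rw [← h2, mul_inv_cancel_right]] at h1

theorem meet_eq_bot (hp : Pair H K) (hg : Giant H K d) (h6 : 6 ≤ d) : kern H K ⊓ kern K H = ⊥ := by
  rcases secondKernel_eq_bot_or hp hg h6 with h | h
  · exact meet_eq_bot_left hp hg h6 h
  · rw [inf_comm]
    exact meet_eq_bot_left hp.symm (both_sides hp hg h6).1 h6 h

end Cfsg.Agent.Lib.SuborbitAlt
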