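import Cfsg.Agent.Lib.SuborbitAlt.Alt
import Cfsg.Agent.Lib.ThompsonWielandt.Bound

/-!
# A pair of subgroups inducing giants on the cosets of their intersection

Owner: helper64.
-/

set_option autoImplicit false
set_option linter.style.haveILetI false

open Equiv
open scoped Nat

namespace Cfsg.Agent.Lib.SuborbitAlt

open Cfsg.Agent.Lib.ThompsonWielandt

variable {G : Type*} [Group G]

/-- The kernel of the action of `H` on the cosets of `H ⊓ K`. -/
def kern (H K : Subgroup G) : Subgroup G := coreIn H (H ⊓ K)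

theorem kern_le_inf (H K : Subgroup G) : kern H K ≤ H ⊓ K := coreIn_le_right _ _

theorem kern_le (H K : Subgroup G) : kern H K ≤ H := coreIn_le _ _

theorem kern_le_right (H K : Subgroup G) : kern H K ≤ K := (kern_le_inf H K).trans inf_le_right

theorem le_normalizer_kern (H K : Subgroup G) : H ≤ Subgroup.normalizer (kern H K : Set G) :=
  le_normalizer_coreIn _ _

theorem le_coreIn {H X N : Subgroup G} (hN : N ≤ H) (hNX : N ≤ X)
    (hn : H ≤ Subgroup.normalizer (N : Set G)) : N ≤ coreIn H X := fun x hx =>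
  mem_coreIn.2 ⟨hN hx, fun _ hh => hNX ((Subgroup.mem_normalizer_iff.1 (hn hh) x).1 hx)⟩

theorem secondKernel_eq (H K : Subgroup G) : secondKernel H K = coreIn H (kern H K ⊓ kern K H) := by
  rw [secondKernel, kern, kern, inf_comm K H]

theorem relIndex_dvd_of_normalized {A B C : Subgroup G} (hBC : B ≤ C)
    (hn : C ≤ Subgroup.normalizer (A : Set G)) : A.relIndex B ∣ A.relIndex C := by
  haveI : (A.subgroupOf C).Normal := Subgroup.normal_subgroupOf_of_le_normalizer hn
  rw [← Subgroup.relIndex_subgroupOf hBC]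
  exact Subgroup.relIndex_dvd_index_of_normal _ _

variable [Finite G]

theorem relIndex_kern_dvd {H K : Subgroup G} {d : ℕ} (hd : (H ⊓ K).relIndex H = d) :
    (kern H K).relIndex (H ⊓ K) ∣ (d - 1)! := by
  have h1 : (kern H K).relIndex H ∣ ((H ⊓ K).relIndex H)! := relIndex_coreIn_dvd H (H ⊓ K)
  rw [← Subgroup.relIndex_mul_relIndex _ _ _ (kern_le_inf H K) inf_le_left, hd] at h1
  have hpos : 0 < d := hd ▸ Nat.pos_of_ne_zero Subgroup.index_ne_zero_of_finite
  rw [← Nat.mul_factorial_pred hpos.ne', mul_comm d] at h1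
  exact Nat.dvd_of_mul_dvd_mul_right hpos h1

/-- `H` induces at least the alternating group on the `d` cosets of `H ⊓ K`. -/
structure Giant (H K : Subgroup G) (d : ℕ) : Prop where
  rel : (H ⊓ K).relIndex H = d
  big : d ! ≤ 2 * (kern H K).relIndex H

/-- A permutation representation of `H` on the cosets of `H ⊓ K`. -/
structure Rep (H K : Subgroup G) (d : ℕ) where
  phi : ↥H →* Perm (Fin d)
  i0 : Fin d
  ker : ∀ h : ↥H, phi h = 1 ↔ (h : G) ∈ kern H K
  stab : ∀ h : ↥H, phi h i0 = i0 ↔ (h : G) ∈ H ⊓ K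
  alt : alternatingGroup (Fin d) ≤ phi.range

theorem ker_rel_eq {H K : Subgroup G} {P : Type*} [Group P] (f : ↥H →* P) {N : Subgroup G}
    (h : ∀ x : ↥H, f x = 1 ↔ (x : G) ∈ N) : Nat.card f.range = N.relIndex H := by
  rw [Subgroup.relIndex, ← Subgroup.index_ker]
  congr 1
  ext x
  rw [MonoidHom.mem_ker, h x, Subgroup.mem_subgroupOf]

theorem Giant.exists_rep {H K : Subgroup G} {d : ℕ} (hg : Giant H K d) : Nonempty (Rep H K d) := by
  set S := (H ⊓ K).subgroupOf H with hS
  have e : ↥H ⧸ S ≃ Fin d := Nonempty.some (by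
    rw [← hg.rel]
    exact ⟨Finite.equivFinOfCardEq rfl⟩)
  set phi : ↥H →* Perm (Fin d) := (e.permCongrHom).toMonoidHom.comp (MulAction.toPermHom ↥H (↥H ⧸ S)) with hphi
  have hker : ∀ h : ↥H, phi h = 1 ↔ (h : G) ∈ kern H K := by
    intro h
    rw [hphi, MonoidHom.comp_apply]
    simp only [MulEquiv.coe_toMonoidHom, EmbeddingLike.map_eq_one_iff]
    rw [← MonoidHom.mem_ker, ← Subgroup.normalCore_eq_ker, ← subgroupOf_coreIn, Subgroup.mem_subgroupOf]
    rfl
  refine ⟨⟨phi, e ((1 : ↥H) : ↥H ⧸ S), hker, fun h => ?_, ?_⟩⟩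
  · simp only [hphi, MonoidHom.comp_apply, MulEquiv.coe_toMonoidHom, Equiv.permCongrHom_coe,
      Equiv.permCongr_apply, Equiv.symm_apply_apply, EmbeddingLike.apply_eq_iff_eq,
      MulAction.toPermHom_apply, MulAction.toPerm_apply, MulAction.Quotient.smul_coe, smul_eq_mul, mul_one,
      QuotientGroup.eq, inv_mem_iff, hS, Subgroup.mem_subgroupOf]
  · refine Equiv.Perm.alternatingGroup_le_of_index_le_two ?_
    have h1 := Subgroup.card_mul_index phi.range
    rw [ker_rel_eq (K := K) phi hker, Nat.card_perm, Nat.card_fin] at h1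
    have h2 := hg.big
    have h3 : 0 < (kern H K).relIndex H := Nat.pos_of_ne_zero Subgroup.index_ne_zero_of_finite
    by_contra h4
    have h5 := Nat.mul_le_mul_left ((kern H K).relIndex H) (Nat.succ_le_of_lt (Nat.lt_of_not_le h4))
    rw [h1] at h5
    omega

/-- The action of `H ⊓ K` on the other `d - 1` cosets. -/
structure Small (H K : Subgroup G) (d : ℕ) where
  psi : ↥(H ⊓ K) →* Perm (Fin (d - 1))
  ker : ∀ x : ↥(H ⊓ K), psi x = 1 ↔ (x : G) ∈ kern H K
  alt : alternatingGroup (Fin (d - 1)) ≤ psi.range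

theorem Giant.exists_small {H K : Subgroup G} {d : ℕ} (hg : Giant H K d) : Nonempty (Small H K d) := by
  obtain ⟨r⟩ := hg.exists_rep
  have hfix : ∀ x : ↥(H ⊓ K), r.phi (Subgroup.inclusion inf_le_left x) r.i0 = r.i0 :=
    fun x => (r.stab _).2 x.2
  have hp : ∀ (x : ↥(H ⊓ K)) (i : Fin d),
      r.phi (Subgroup.inclusion inf_le_left x) i ≠ r.i0 ↔ i ≠ r.i0 := fun x i => by
    refine not_congr ?_
    conv_lhs => rhs; rw [← hfix x]
    exact EmbeddingLike.apply_eq_iff_eq _
  let e : {i : Fin d // i ≠ r.i0} ≃ Fin (d - 1) :=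
    Fintype.equivFinOfCardEq (by simp [Fintype.card_subtype_compl])
  let psi0 : ↥(H ⊓ K) →* Perm {i : Fin d // i ≠ r.i0} :=
    MonoidHom.mk' (fun x => (r.phi (Subgroup.inclusion inf_le_left x)).subtypePerm (hp x)) fun x y => by
      ext i
      simp
      rfl
  set psi : ↥(H ⊓ K) →* Perm (Fin (d - 1)) := e.permCongrHom.toMonoidHom.comp psi0 with hpsi
  have hker : ∀ x : ↥(H ⊓ K), psi x = 1 ↔ (x : G) ∈ kern H K := by
    intro x
    rw [hpsi, MonoidHom.comp_apply]
    simp only [MulEquiv.coe_toMonoidHom, EmbeddingLike.map_eq_one_iff]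
    refine Iff.trans ?_ (r.ker (Subgroup.inclusion inf_le_left x))
    constructor
    · intro h
      ext i
      by_cases hi : i = r.i0
      · rw [hi, hfix x]
        rfl
      · exact congrArg (fun j => ((j : {i : Fin d // i ≠ r.i0}) : Fin d).val) (congrArg (fun p => p ⟨i, hi⟩) h)
    · intro h
      ext i
      show (r.phi (Subgroup.inclusion inf_le_left x) (i : Fin d) : ℕ) = _
      rw [h]
      rfl
  refine ⟨⟨psi, hker, Equiv.Perm.alternatingGroup_le_of_index_le_two ?_⟩⟩
  have h1 := Subgroup.card_mul_index psi.range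
  rw [ker_rel_eq (K := K) psi hker, Nat.card_perm, Nat.card_fin] at h1
  have h2 := hg.big
  rw [← Subgroup.relIndex_mul_relIndex _ _ _ (kern_le_inf H K) inf_le_left, hg.rel] at h2
  have h3 : 0 < d := hg.rel ▸ Nat.pos_of_ne_zero Subgroup.index_ne_zero_of_finite
  rw [← Nat.mul_factorial_pred h3.ne', ← h1] at h2
  have h6 : 0 < (kern H K).relIndex (H ⊓ K) := Nat.pos_of_ne_zero Subgroup.index_ne_zero_of_finite
  refine Nat.le_of_mul_le_mul_left ?_ (Nat.mul_pos h3 h6)
  calc d * (kern H K).relIndex (H ⊓ K) * psi.range.index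
      ≤ 2 * ((kern H K).relIndex (H ⊓ K) * d) := by rw [mul_assoc]; exact h2
    _ = d * (kern H K).relIndex (H ⊓ K) * 2 := by ring

variable {H K : Subgroup G} {d : ℕ}

omit [Finite G] in
theorem Rep.eq_of_eq (r : Rep H K d) {x y : ↥H} (h : r.phi x r.i0 = r.phi y r.i0) : ((x : G)⁻¹ * y) ∈ H ⊓ K := by
  refine (r.stab (x⁻¹ * y)).1 ?_
  rw [map_mul, map_inv, Perm.mul_apply, ← h, Perm.inv_def, Equiv.symm_apply_apply]

omit [Finite G] in
theorem Rep.le_kern_or (r : Rep H K d) (h5 : 5 ≤ d) {N : Subgroup G} (hN : N ≤ H)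
    (hn : H ≤ Subgroup.normalizer (N : Set G)) :
    N ≤ kern H K ∨ alternatingGroup (Fin d) ≤ img r.phi N := by
  rcases eq_bot_or_alt_le h5 (r.alt.trans (range_le_normalizer_img r.phi hn)) with h | h
  · left
    intro x hx
    exact (r.ker ⟨x, hN hx⟩).1 (by rw [← Subgroup.mem_bot, ← h]; exact ⟨⟨x, hN hx⟩, hx, rfl⟩)
  · exact .inr h

omit [Finite G] in
theorem Small.le_kern_or (s : Small H K d) (h5 : 6 ≤ d) {N : Subgroup G} (hN : N ≤ H ⊓ K)
    (hn : H ⊓ K ≤ Subgroup.normalizer (N : Set G)) :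
    N ≤ kern H K ∨ alternatingGroup (Fin (d - 1)) ≤ img s.psi N := by
  rcases eq_bot_or_alt_le (by omega) (s.alt.trans (range_le_normalizer_img s.psi hn)) with h | h
  · left
    intro x hx
    exact (s.ker ⟨x, hN hx⟩).1 (by rw [← Subgroup.mem_bot, ← h]; exact ⟨⟨x, hN hx⟩, hx, rfl⟩)
  · exact .inr h

end Cfsg.Agent.Lib.SuborbitAlt
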