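import Cfsg.Agent.Lib.SuborbitAlt.Setup
import Cfsg.Agent.Lib.ThompsonWielandt.Fitting

/-!
# The two sides of an alternating suborbit look alike

Owner: helper64.
-/

set_option autoImplicit false
set_option linter.style.haveILetI false

open Equiv Cfsg

namespace Cfsg.Agent.Lib.SuborbitAlt

open Cfsg.Agent.Lib.ThompsonWielandt Cfsg.Agent.Lib

variable {G : Type*} [Group G] [Finite G] {H K : Subgroup G} {d : ℕ}

theorem alt_not_isPGroup {n : ℕ} (h5 : 5 ≤ n) {p : ℕ} [Fact p.Prime] :
    ¬ IsPGroup p (alternatingGroup (Fin n)) := by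
  intro h
  haveI := h.isNilpotent
  haveI := alternatingGroup.nontrivial_of_three_le_card (α := Fin n) (by simp; omega)
  haveI : Group.IsPerfect (alternatingGroup (Fin n)) := Subgroup.isPerfect_iff.2 (commutator_alt h5)
  exact (Group.IsPerfect.not_isSolvable (G := alternatingGroup (Fin n))) inferInstance

theorem pCoreOf_inf_eq_bot (hp : Pair H K) (hg : Giant H K d) (h6 : 6 ≤ d) {p : ℕ} [Fact p.Prime] :
    pCoreOf p (H ⊓ K) = ⊥ := by
  refine hp.pCoreOf_inf_eq_bot ?_
  obtain ⟨s⟩ := hg.exists_small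
  refine (s.le_kern_or h6 (CharP.pCoreOf_le p _) (CharP.le_normalizer_pCoreOf p _)).resolve_right fun h => ?_
  refine alt_not_isPGroup (show 5 ≤ d - 1 by omega) (p := p) (IsPGroup.to_le ?_ h)
  exact (CharP.isPGroup_pCoreOf p (H ⊓ K)).comap_subtype.map s.psi

theorem secondKernel_eq_bot_or (hp : Pair H K) (hg : Giant H K d) (h6 : 6 ≤ d) :
    secondKernel H K = ⊥ ∨ secondKernel K H = ⊥ := by
  by_contra h
  push Not at h
  obtain ⟨p, hpp, hP, -, -⟩ := hp.thompson_wielandt h.1 h.2
  haveI := Fact.mk hpp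
  refine h.1 (le_bot_iff.1 (le_trans ?_ (pCoreOf_inf_eq_bot hp hg h6 (p := p)).le))
  exact CharP.le_pCoreOf hP (secondKernel_le_inf H K)
    (inf_le_left.trans (le_normalizer_secondKernel H K))

/-- A group inside `H ⊓ K` maps onto no simple group of order not dividing `(d - 1)!`. -/
theorem card_dvd_of_onto_left (hd : (H ⊓ K).relIndex H = d) (hd' : (K ⊓ H).relIndex K = d)
    (hP : secondKernel H K = ⊥) {L Y : Type*} [Group L] [Group Y] [IsSimpleGroup Y] (ι : L →* G)
    (hι : Function.Injective ι) (hle : ∀ x, ι x ∈ H ⊓ K) (f : L →* Y) (hf : Function.Surjective f) :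
    Nat.card Y ∣ (d - 1).factorial := by
  classical
  haveI : Finite L := Finite.of_injective ι hι
  haveI : Finite Y := Finite.of_surjective f hf
  set H1 := kern H K with hH1
  set K1 := kern K H with hK1
  set N0 := H1.comap ι with hN0
  haveI hN0n : N0.Normal := ⟨fun x hx y => by
    show ι (y * x * y⁻¹) ∈ H1
    rw [map_mul, map_mul, map_inv]
    exact (Subgroup.mem_normalizer_iff.1 (le_normalizer_kern H K (hle y).1) _).1 hx⟩
  -- index bound for a normal subgroup of a subgroup of `L` mapping onto `Y`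
  have key : ∀ (M A : Subgroup L), M.map f = ⊤ → M ≤ Subgroup.normalizer (A : Set L) →
      A.relIndex M ∣ (d - 1).factorial → (M ⊓ A).map f = ⊤ ∨ Nat.card Y ∣ (d - 1).factorial := by
    intro M A hM hn hdvd
    haveI : ((M ⊓ A).map f).Normal := by
      refine Subgroup.normalizer_eq_top_iff.1 (eq_top_iff.2 ?_)
      rw [← hM]
      refine le_trans (Subgroup.map_mono fun x hx => ?_) (Subgroup.le_normalizer_map f)
      exact Subgroup.inf_normalizer_le_normalizer_inf ⟨Subgroup.le_normalizer hx, hn hx⟩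
    rcases (inferInstance : ((M ⊓ A).map f).Normal).eq_bot_or_eq_top with h | h
    · right
      have h1 : (M ⊓ A) ≤ M ⊓ f.ker := le_inf inf_le_left (Subgroup.map_eq_bot_iff _ |>.1 h)
      have h2 : (f.ker).relIndex M = Nat.card Y := by
        rw [← MonoidHom.comap_bot, Subgroup.relIndex_comap, hM, Subgroup.relIndex_top_right, Subgroup.index_bot]
      rw [← h2, ← Subgroup.inf_relIndex_right f.ker M, inf_comm]
      refine dvd_trans (Subgroup.relIndex_dvd_of_le_left M h1) ?_
      rwa [inf_comm, Subgroup.inf_relIndex_right]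
    · exact .inl h
  rcases key ⊤ N0 (Subgroup.map_top_of_surjective f hf) (by rw [Subgroup.normalizer_eq_top])
      (by
        rw [hN0, Subgroup.relIndex_comap]
        refine dvd_trans (relIndex_dvd_of_normalized ?_ (inf_le_left.trans (le_normalizer_kern H K)))
          (relIndex_kern_dvd hd)
        rintro _ ⟨x, -, rfl⟩
        exact hle x) with h0 | h0
  swap
  · exact h0
  rw [top_inf_eq] at h0
  -- the conjugates of `D`
  set D := H1 ⊓ K1 with hD
  have hDn : H1 ≤ Subgroup.normalizer (D : Set G) := fun x hx => Subgroup.inf_normalizer_le_normalizer_inf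
    ⟨Subgroup.le_normalizer hx, le_normalizer_kern K H (kern_le_right H K hx)⟩
  have hDi : D.relIndex H1 ∣ (d - 1).factorial := by
    rw [hD, Subgroup.inf_relIndex_left]
    refine dvd_trans (relIndex_dvd_of_normalized (kern_le_inf H K) ?_) (inf_comm K H ▸ relIndex_kern_dvd hd')
    exact inf_le_right.trans (le_normalizer_kern K H)
  haveI := Fintype.ofFinite ↥H
  let S : ↥H → Subgroup L := fun h => (D.comap (MulAut.conj (h : G)).toMonoidHom).comap ι
  suffices hs : ∀ s : Finset ↥H, (N0 ⊓ ⨅ h ∈ s, S h).map f = ⊤ ∨ Nat.card Y ∣ (d - 1).factorial by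
    rcases hs Finset.univ with h | h
    · exfalso
      have : N0 ⊓ (⨅ h ∈ (Finset.univ : Finset ↥H), S h) = ⊥ := by
        refine (Subgroup.eq_bot_iff_forall _).2 fun x hx => hι ?_
        rw [map_one, ← Subgroup.mem_bot, ← hP, secondKernel_eq, mem_coreIn]
        refine ⟨(hle x).1, fun g hg => ?_⟩
        have h3 := Subgroup.mem_iInf.1 (Subgroup.mem_iInf.1 hx.2 (⟨g, hg⟩ : ↥H)) (Finset.mem_univ _)
        exact h3
      rw [this, Subgroup.map_bot] at h
      exact bot_ne_top h
    · exact h
  intro s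
  induction s using Finset.induction_on with
  | empty => left; simpa using h0
  | insert a s has ih =>
    rcases ih with h | h
    swap
    · exact .inr h
    have hN0le : N0 ≤ Subgroup.normalizer (S a : Set L) := by
      intro x hx
      refine Subgroup.le_normalizer_comap ι ?_
      rw [Subgroup.mem_comap]
      refine Subgroup.le_normalizer_comap _ ?_
      rw [Subgroup.mem_comap]
      exact hDn ((Subgroup.mem_normalizer_iff.1 (le_normalizer_kern H K a.2) (ι x)).1 hx)
    have := key (N0 ⊓ ⨅ h ∈ s, S h) (S a) h (inf_le_left.trans hN0le) ?_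
    · rwa [Finset.iInf_insert, inf_comm (S a), ← inf_assoc]
    · refine dvd_trans (relIndex_dvd_of_normalized inf_le_left hN0le) ?_
      show ((D.comap (MulAut.conj (a : G)).toMonoidHom).comap ι).relIndex N0 ∣ _
      rw [Subgroup.relIndex_comap, Subgroup.relIndex_comap]
      refine dvd_trans (relIndex_dvd_of_normalized ?_ hDn) hDi
      rintro _ ⟨_, ⟨x, hx, rfl⟩, rfl⟩
      exact (Subgroup.mem_normalizer_iff.1 (le_normalizer_kern H K a.2) (ι x)).1 hx

theorem card_dvd_of_onto (hp : Pair H K) (hg : Giant H K d) (h6 : 6 ≤ d)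
    {L Y : Type*} [Group L] [Group Y] [IsSimpleGroup Y] (ι : L →* G) (hι : Function.Injective ι)
    (hle : ∀ x, ι x ∈ H ⊓ K) (f : L →* Y) (hf : Function.Surjective f) :
    Nat.card Y ∣ (d - 1).factorial := by
  have hd' : (K ⊓ H).relIndex K = d := by rw [inf_comm, hp.relIndex_inf_eq, hg.rel]
  rcases secondKernel_eq_bot_or hp hg h6 with h | h
  · exact card_dvd_of_onto_left hg.rel hd' h ι hι hle f hf
  · exact card_dvd_of_onto_left hd' hg.rel h ι hι (fun x => inf_comm H K ▸ hle x) f hf

/-- Conjugation carries the kernel in `K` into the kernel in `H`. -/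
theorem kern_map_le {A B : Subgroup G} (hp : Pair H K) (hg : Giant H K d) (h6 : 6 ≤ d)
    (hab : A = H ∧ B = K ∨ A = K ∧ B = H) (hA : Giant A B d) {g : G}
    (hconj : B = A.map (MulAut.conj g).toMonoidHom) :
    (kern B A).map (MulAut.conj g⁻¹).toMonoidHom ≤ kern A B := by
  obtain ⟨r⟩ := hA.exists_rep
  set N := (kern B A).map (MulAut.conj g⁻¹).toMonoidHom with hN
  have hBA : ∀ x, x ∈ B ↔ g⁻¹ * x * g ∈ A := fun x => by
    rw [hconj, Subgroup.mem_map_equiv, MulAut.conj_symm_apply]
  have hNA : N ≤ A := by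
    rintro _ ⟨x, hx, rfl⟩
    simpa using (hBA x).1 (kern_le B A hx)
  have hNn : A ≤ Subgroup.normalizer (N : Set G) := by
    refine le_trans ?_ (Subgroup.le_normalizer_map _)
    intro a ha
    exact ⟨g * a * g⁻¹, le_normalizer_kern B A ((hBA _).2 (by simpa [mul_assoc] using ha)), by simp [mul_assoc]⟩
  refine (r.le_kern_or (by omega) hNA hNn).resolve_right fun h => ?_
  let u : ↥(kern B A) →* ↥A := MonoidHom.mk'
    (fun x => ⟨MulAut.conj g⁻¹ (x : G), hNA ⟨x, x.2, rfl⟩⟩) fun x y => Subtype.ext (map_mul _ _ _)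
  let v := r.phi.comp u
  haveI := alternatingGroup.isSimpleGroup (α := Fin d) (by simp; omega)
  refine not_card_alt_dvd (n := d) (by omega) (card_dvd_of_onto hp hg h6
    (L := ↥((alternatingGroup (Fin d)).comap v)) ((kern B A).subtype.comp (Subgroup.subtype _))
    ((kern B A).subtype_injective.comp (Subgroup.subtype_injective _)) (fun x => ?_)
    (v.subgroupComap (alternatingGroup (Fin d))) fun y => ?_)
  · have := kern_le_inf B A x.1.2
    rcases hab with ⟨rfl, rfl⟩ | ⟨rfl, rfl⟩
    · exact inf_comm A B ▸ this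
    · exact this
  · obtain ⟨z, hz, hzy⟩ := h y.2
    obtain ⟨x, hx, hxz⟩ := hz
    have e : u ⟨x, hx⟩ = z := Subtype.ext hxz
    refine ⟨⟨⟨x, hx⟩, ?_⟩, Subtype.ext ?_⟩
    · show r.phi (u ⟨x, hx⟩) ∈ alternatingGroup (Fin d)
      rw [e, hzy]
      exact y.2
    · show r.phi (u ⟨x, hx⟩) = _
      rw [e, hzy]

theorem card_kern_le_of_map {A B : Subgroup G} {g : G}
    (h : (kern B A).map (MulAut.conj g⁻¹).toMonoidHom ≤ kern A B) : Nat.card (kern B A) ≤ Nat.card (kern A B) := by
  rw [← Subgroup.card_map_of_injective (f := (MulAut.conj g⁻¹).toMonoidHom) (MulAut.conj g⁻¹).injective]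
  exact Subgroup.card_le_of_le h

/-- Both sides induce giants, and the two kernels are conjugate. -/
theorem both_sides (hp : Pair H K) (hg : Giant H K d) (h6 : 6 ≤ d) :
    Giant K H d ∧ Nat.card (kern K H) = Nat.card (kern H K) ∧
      ∃ g : G, K = H.map (MulAut.conj g).toMonoidHom ∧
        (kern K H).map (MulAut.conj g⁻¹).toMonoidHom ≤ kern H K := by
  obtain ⟨g, hgK⟩ := hp.conj
  have h1 := kern_map_le hp hg h6 (.inl ⟨rfl, rfl⟩) hg hgK
  have c1 := card_kern_le_of_map h1
  have hcard := hp.card_eq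
  have e1 := Subgroup.relIndex_mul_relIndex (⊥ : Subgroup G) (kern H K) H bot_le (kern_le H K)
  have e2 := Subgroup.relIndex_mul_relIndex (⊥ : Subgroup G) (kern K H) K bot_le (kern_le K H)
  rw [Subgroup.relIndex_bot_left, Subgroup.relIndex_bot_left] at e1 e2
  have hgK' : Giant K H d := by
    refine ⟨by rw [inf_comm, hp.relIndex_inf_eq, hg.rel], hg.big.trans (Nat.mul_le_mul_left 2 ?_)⟩
    refine Nat.le_of_mul_le_mul_left ?_ (Nat.card_pos (α := ↥(kern H K)))
    calc Nat.card (kern H K) * (kern H K).relIndex H = Nat.card (kern K H) * (kern K H).relIndex K := by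
          rw [e1, e2, hcard]
      _ ≤ _ := Nat.mul_le_mul_right _ c1
  have hgH : H = K.map (MulAut.conj g⁻¹).toMonoidHom := by
    rw [hgK, Subgroup.map_map]
    convert H.map_id.symm
    ext x
    simp [mul_assoc]
  have h2 := kern_map_le hp hg h6 (.inr ⟨rfl, rfl⟩) hgK' hgH
  exact ⟨hgK', le_antisymm c1 (card_kern_le_of_map h2), g, hgK, h1⟩

end Cfsg.Agent.Lib.SuborbitAlt
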